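import Mathlib.AlgebraicGeometry.AffineScheme
import Mathlib.AlgebraicGeometry.Morphisms.Affine
import Mathlib.AlgebraicGeometry.Morphisms.Flat
import Mathlib.RingTheory.RingHom.EssFiniteType

/-!
# Morphisms locally essentially of finite type
-/

universe u

open CategoryTheory CategoryTheory.Limits AlgebraicGeometry TopologicalSpace Opposite

namespace Groth.Agent.EssFTX

variable {X Y : Scheme.{u}} (f : X ⟶ Y)

/-- Every point over `U` has an affine neighbourhood essentially of finite type over `U`. -/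
def At (U : Y.Opens) (x : X) : Prop :=
  ∃ V : X.affineOpens, x ∈ (V : X.Opens) ∧ ∃ e : (V : X.Opens) ≤ f ⁻¹ᵁ U,
    (f.appLE U V e).hom.EssFiniteType

/-- `f⁻¹U` is covered by affines essentially of finite type over `U`. -/
def Cov (U : Y.affineOpens) : Prop :=
  ∃ T : Set X.affineOpens, (⋃ V ∈ T, ((V : X.Opens) : Set ↥X)) = ((f ⁻¹ᵁ (U : Y.Opens)) : Set ↥X) ∧
    ∀ V ∈ T, ∃ e : (V : X.Opens) ≤ f ⁻¹ᵁ (U : Y.Opens),
      (f.appLE (U : Y.Opens) (V : X.Opens) e).hom.EssFiniteType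

theorem cov_iff (U : Y.affineOpens) : Cov f U ↔ ∀ x : X, f x ∈ (U : Y.Opens) → At f U.1 x := by
  refine ⟨fun ⟨T, hT, h⟩ x hx => ?_, fun h => ?_⟩
  · obtain ⟨V, hV, hxV⟩ := Set.mem_iUnion₂.1 (hT.symm ▸ (show x ∈ ((f ⁻¹ᵁ U.1 : X.Opens) : Set X) from hx))
    exact ⟨V, hxV, h V hV⟩
  refine ⟨{V | ∃ e : (V : X.Opens) ≤ f ⁻¹ᵁ U.1, (f.appLE U.1 V e).hom.EssFiniteType}, ?_, fun _ hV => hV⟩
  refine Set.Subset.antisymm (Set.iUnion₂_subset fun V ⟨e, _⟩ => e) fun x hx => ?_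
  obtain ⟨V, hxV, hV⟩ := h x hx
  exact Set.mem_iUnion₂.2 ⟨V, hV, hxV⟩

/-- Restriction to a basic open is essentially of finite type. -/
theorem res_basicOpen {U : Y.Opens} (hU : IsAffineOpen U) (r : Γ(Y, U)) :
    (Y.presheaf.map (homOfLE (Y.basicOpen_le r)).op).hom.EssFiniteType := by
  have : IsLocalization.Away r Γ(Y, Y.basicOpen r) := hU.isLocalization_basicOpen r
  exact RingHom.essFiniteType_algebraMap.2
    (Algebra.EssFiniteType.of_isLocalization Γ(Y, Y.basicOpen r) (Submonoid.powers r))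

/-- The property passes to every affine open of the base around the image. -/
theorem At.change {U₀ U : Y.Opens} (hU₀ : IsAffineOpen U₀) (hU : IsAffineOpen U) {x : X}
    (h : At f U₀ x) (hx : f x ∈ U) : At f U x := by
  obtain ⟨⟨V, hV⟩, hxV, e, he⟩ := h
  obtain ⟨a, b, hab, hxa⟩ := exists_basicOpen_le_affine_inter hU₀ hU (f x) ⟨e hxV, hx⟩
  let W : X.Opens := X.basicOpen (f.appLE U₀ V e a)
  have hW : W = V ⊓ f ⁻¹ᵁ Y.basicOpen a := by
    rw [Scheme.preimage_basicOpen]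
    simp only [W, Scheme.Hom.appLE, CommRingCat.comp_apply, Scheme.basicOpen_res]
  have eW : W ≤ f ⁻¹ᵁ Y.basicOpen b := by rw [← hab]; exact hW.le.trans inf_le_right
  have e₁ : Y.basicOpen b ≤ U₀ := hab ▸ Y.basicOpen_le a
  have h2 : (f.appLE (Y.basicOpen b) W eW).hom.EssFiniteType := by
    refine RingHom.EssFiniteType.of_comp (Y.presheaf.map (homOfLE e₁).op).hom ?_
    rw [← CommRingCat.hom_comp, Scheme.Hom.map_appLE]
    rw [← Scheme.Hom.appLE_map f e (homOfLE (X.basicOpen_le _)).op, CommRingCat.hom_comp]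
    exact he.comp (res_basicOpen hV _)
  refine ⟨⟨W, hV.basicOpen _⟩, (show x ∈ W by rw [hW]; exact ⟨hxV, hxa⟩), eW.trans (f.preimage_mono (Y.basicOpen_le b)), ?_⟩
  rw [← Scheme.Hom.map_appLE f eW (homOfLE (Y.basicOpen_le b)).op, CommRingCat.hom_comp]
  exact (res_basicOpen hU b).comp h2

theorem cov_of_cover {S : Set Y.affineOpens}
    (hS : (⋃ U ∈ S, ((U : Y.Opens) : Set ↥Y)) = Set.univ) (h : ∀ U ∈ S, Cov f U) (U : Y.affineOpens) :
    Cov f U := by
  rw [cov_iff]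
  intro x hx
  obtain ⟨U₀, hU₀, hxU₀⟩ := Set.mem_iUnion₂.1 (hS.symm ▸ Set.mem_univ (f x))
  exact At.change f U₀.2 U.2 ((cov_iff f U₀).1 (h U₀ hU₀) x hxU₀) hx

theorem cov_comp {Z : Scheme.{u}} (g : Y ⟶ Z) (hf : ∀ U, Cov f U) (hg : ∀ U, Cov g U) (U : Z.affineOpens) :
    Cov (f ≫ g) U := by
  rw [cov_iff]
  intro x hx
  obtain ⟨V, hxV, e, he⟩ := (cov_iff g U).1 (hg U) (f x) hx
  obtain ⟨W, hxW, e', he'⟩ := (cov_iff f V).1 (hf V) x hxV
  refine ⟨W, hxW, e'.trans (f.preimage_mono e), ?_⟩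
  rw [← Scheme.Hom.appLE_comp_appLE f g _ _ _ e e', CommRingCat.hom_comp]
  exact he.comp he'

theorem cov_baseChange {Y' : Scheme.{u}} (g : Y' ⟶ Y) (hf : ∀ U, Cov f U) (U : Y'.affineOpens) :
    Cov (pullback.snd f g) U := by
  rw [cov_iff]
  intro z hz
  have hp := IsPullback.of_hasPullback f g
  obtain ⟨W, hW, hxW, -⟩ :=
    exists_isAffineOpen_mem_and_subset (x := f (pullback.fst f g z)) (U := ⊤) trivial
  obtain ⟨⟨V, hV⟩, hxV, e, he⟩ := (cov_iff f ⟨W, hW⟩).1 (hf _) _ hxW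
  have hzW : g (pullback.snd f g z) ∈ W := by
    rw [← Scheme.Hom.comp_apply, ← pullback.condition, Scheme.Hom.comp_apply]; exact hxW
  obtain ⟨r, hr, hzr⟩ := U.2.exists_basicOpen_le (V := g ⁻¹ᵁ W) ⟨_, hzW⟩ hz
  let T : Y'.Opens := Y'.basicOpen r
  have hT : IsAffineOpen T := U.2.basicOpen r
  let O : (pullback f g).Opens := pullback.fst f g ⁻¹ᵁ V ⊓ pullback.snd f g ⁻¹ᵁ T
  have hO : IsAffineOpen O := by
    haveI : IsAffine _ := hW
    haveI : IsAffine _ := hT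
    haveI : IsAffine _ := hV
    exact .of_isIso (Scheme.Hom.isPullback_resLE hp (UX := V) (US := W) hr e
      (show O = pullback.fst f g ⁻¹ᵁ V ⊓ pullback.snd f g ⁻¹ᵁ T from rfl)).isoPullback.hom
  haveI := isIso_pushoutSection_of_isAffineOpen hp (UT := T) (UX := V) (US := W) hr e
      (show O = pullback.fst f g ⁻¹ᵁ V ⊓ pullback.snd f g ⁻¹ᵁ T from rfl) hW hT hV
  have hpo := (isIso_pushoutSection_iff hp hr e rfl).mp this
  refine ⟨⟨O, hO⟩, ⟨hxV, hzr⟩,
    inf_le_right.trans ((pullback.snd f g).preimage_mono (Y'.basicOpen_le r)), ?_⟩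
  rw [← Scheme.Hom.map_appLE (pullback.snd f g) (U := T) (V := O) inf_le_right
    (homOfLE (Y'.basicOpen_le r)).op, CommRingCat.hom_comp]
  refine (res_basicOpen U.2 r).comp ?_
  rw [← hpo.flip.inl_isoPushout_inv, CommRingCat.hom_comp]
  exact RingHom.EssFiniteType.respectsIso.1 _ hpo.flip.isoPushout.symm.commRingCatIsoToRingEquiv
    (RingHom.EssFiniteType.isStableUnderBaseChange.pushout_inl RingHom.EssFiniteType.respectsIso _ _ he)

theorem finite_of_quasiCompact [QuasiCompact f] (U : Y.affineOpens) (h : Cov f U) :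
    ∃ T : Set X.affineOpens, T.Finite ∧
      (⋃ V ∈ T, ((V : X.Opens) : Set ↥X)) = ((f ⁻¹ᵁ (U : Y.Opens)) : Set ↥X) ∧
        ∀ V ∈ T, ∃ e : (V : X.Opens) ≤ f ⁻¹ᵁ (U : Y.Opens),
          (f.appLE (U : Y.Opens) (V : X.Opens) e).hom.EssFiniteType := by
  obtain ⟨T, hT, h'⟩ := h
  obtain ⟨T', hT'sub, hfin, hcov⟩ := (QuasiCompact.isCompact_preimage (f := f) _ U.1.2 U.2.isCompact).elim_finite_subcover_image
    (b := T) (c := fun V => ((V : X.Opens) : Set X)) (fun V _ => V.1.2) hT.ge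
  exact ⟨T', hfin, Set.Subset.antisymm ((Set.biUnion_subset_biUnion_left hT'sub).trans hT.le) hcov,
    fun V hV => h' V (hT'sub hV)⟩

end Groth.Agent.EssFTX
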